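import Groth.Agent.LefPen24.PlaneCurve
import Groth.Agent.AbCubeLib.FiniteDegree
import Groth.Agent.DimLib.ProjDim
import Groth.Agent.CurveLib.ProjLine
import Groth.Agent.SerreDual.Projective
import Groth.Agent.SerreDual.ProjDualAll

/-!
# Cohomology of twists of a hypersurface in projective space
-/

set_option autoImplicit false
set_option linter.style.haveILetI false
set_option backward.isDefEq.respectTransparency.types false

universe u

open CategoryTheory CategoryTheory.Limits AlgebraicGeometry Opposite TopologicalSpace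
open Groth.Agent.Coherent Groth.Agent.EulerLib

namespace Groth.Agent.HypCoh14

variable (F : Type u) [Field F]

local notation "P" N => CohB1.ProjSpace N F
local notation "O" N ", " m => Twist.twistProjSpace N F m

noncomputable local instance overP (N : ℕ) : (CohB1.ProjSpace N F).Over (Spec (CommRingCat.of F)) :=
  inferInstance

/-- `C(m + N, N)`, read as zero for negative `m + N`. -/
def cf (N : ℕ) (m : ℤ) : ℕ := Nat.choose (m + (N : ℤ)).toNat N

theorem finite_twist_zero {N : ℕ} (hN : 1 ≤ N) (m : ℤ) :
    Module.Finite F (Coh.HH (P N) (O N, m) 0) ∧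
      Module.finrank F (Coh.HH (P N) (O N, m) 0) = cf N m := by
  rcases lt_or_ge m 0 with hm | hm
  · haveI := subsingleton_HH_twist (n := N) (R := F) (d := m) 0 (by omega) (by omega)
    refine ⟨inferInstance, ?_⟩
    rw [Module.finrank_zero_of_subsingleton, cf, Nat.choose_eq_zero_of_lt (by omega)]
  · obtain ⟨j, rfl⟩ := Int.eq_ofNat_of_zero_le hm
    obtain ⟨e⟩ := nonempty_HH_zero_twist (n := N) (R := F) j
    refine ⟨?_, ?_⟩
    · haveI : Module.Finite F (MvPolynomial.homogeneousSubmodule (Fin (N + 1)) F j) :=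
        Module.finite_of_finrank_pos (by rw [GrLib.finrank_homogeneous]; exact Nat.choose_pos (by omega))
      exact Module.Finite.equiv e.symm
    · rw [e.finrank_eq, GrLib.finrank_homogeneous, cf]
      congr 1
      omega

theorem finite_twist_top {N : ℕ} (hN : 1 ≤ N) (m : ℤ) :
    Module.Finite F (Coh.HH (P N) (O N, m) N) ∧
      Module.finrank F (Coh.HH (P N) (O N, m) N) = cf N (-m - 1 - (N : ℤ)) := by
  rcases lt_or_ge (-((N : ℤ) + 1)) m with hm | hm
  · haveI := subsingleton_HH_twist (n := N) (R := F) (d := m) N (by omega) (by omega)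
    refine ⟨inferInstance, ?_⟩
    rw [Module.finrank_zero_of_subsingleton, cf, Nat.choose_eq_zero_of_lt (by omega)]
  · obtain ⟨j, rfl⟩ : ∃ j : ℕ, m = -((N : ℤ) + 1 + j) := ⟨(-((N : ℤ) + 1) - m).toNat, by omega⟩
    obtain ⟨e⟩ := nonempty_HH_top_twist (n := N) (R := F) j
    refine ⟨?_, ?_⟩
    · haveI : Module.Finite F (MvPolynomial.homogeneousSubmodule (Fin (N + 1)) F j) :=
        Module.finite_of_finrank_pos (by rw [GrLib.finrank_homogeneous]; exact Nat.choose_pos (by omega))
      exact Module.Finite.equiv e.symm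
    · rw [e.finrank_eq, GrLib.finrank_homogeneous, cf]
      congr 1
      omega

variable {N k : ℕ} (I : (CohB1.ProjSpace N F).IdealSheafData)
  (hI : Nonempty (ClSub.idealMod I ≅ Twist.twistProjSpace N F (-(k : ℤ)))) (n : ℤ)

/-- `O_X(n)`. -/
noncomputable abbrev Q : (CohB1.ProjSpace N F).Modules := CohB1.tensorMod (ClSub.quotMod I) (O N, n)

set_option maxHeartbeats 1000000 in
include hI in
theorem subsingleton_top (hN : 1 ≤ N) (q : ℕ) (hq : N ≤ q) : Subsingleton (Coh.HH (P N) (Q F I n) q) := by
  haveI := Coherent.isProper_projSpace_toSpec N F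
  haveI : IsProper ((P N) ↘ Spec (CommRingCat.of F)) := Coherent.isProper_projSpace_toSpec N F
  haveI := EulerLib.isNoetherian_of_proper (k := F) (X := P N)
  haveI := CurveLib.isIntegral_projSpace F N
  have hL := SerreDual.isInvertible_twist N F n
  have hKL := SerreDual.isInvertible_twist N F (-(k : ℤ))
  have hq' := CurveRR24.isCoh_quotMod I
  obtain ⟨e⟩ := hI
  have hsK : CohB1.support (ClSub.idealMod I) = Set.univ := by
    refine Set.univ_subset_iff.1 ?_
    rw [← AbCubeLib.support_structureModule_eq_univ (X := P N),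
      ← EulerLib.support_twist hKL (Coh.structureModule (P N))]
    exact (support_subset_of_mono (AmpleLib.unitTensorIso _).hom).trans (support_subset_of_mono e.inv)
  have hne : genericPoint (P N) ∉ CohB1.support (ClSub.quotMod I) := by
    intro hmem
    have hadd : 1 = AbCubeLib.genRank (ClSub.idealMod I) + AbCubeLib.genRank (ClSub.quotMod I) := by
      have h0 := AbCubeLib.genRank_structureModule (X := P N)
      have hS₀ := CurveRR24.shortExact_ideal I
      have h1 := AbCubeLib.genRank_add hS₀ (show Coh.IsCoh (Coh.structureModule (P N)) from isCoh_structureModule (P N))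
      exact h0.symm.trans h1
    letI : Field ((P N).presheaf.stalk (genericPoint (P N))) := inferInstanceAs (Field (P N).functionField)
    have hpos : ∀ M : (P N).Modules, Coh.IsCoh M → genericPoint (P N) ∈ CohB1.support M →
        AbCubeLib.genRank M ≠ 0 := fun M hM h h0 => by
      haveI := AssSch12.finite_stalk hM (genericPoint (P N))
      exact h (Module.finrank_zero_iff.1 h0)
    have h1 := hpos _ (CurveRR24.isCoh_idealMod' I) (hsK.ge trivial)
    have h3 := hpos _ hq' hmem
    omega
  haveI : Coh.IsQCoh (Q F I n) := (EulerLib.isCoh_twist hL hq').1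
  have hcl : IsClosed (CohB1.support (ClSub.quotMod I)) :=
    isClosed_support _ (locallyFinGen_of_isFT _ hq'.2)
  refine subsingleton_HH_of_support ⟨_, hcl⟩ (Q F I n) inferInstance (EulerLib.support_twist hL _).le q ?_
  have := EulerLib.dim_lt_of_notMem (r := N) hcl (Set.subset_univ _) isClosed_univ
    (genericPoint_closure (P N)) hne
    (((Homeomorph.Set.univ (P N)).isInducing.topologicalKrullDim_le).trans
      (DimLib.PN.topologicalKrullDim_projSpace N F).le)
  exact lt_of_lt_of_le this (by exact_mod_cast hq)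

include hI in
theorem hypersurface (hN : 1 ≤ N) :
    (∀ p : ℕ, p ≠ 0 → p + 1 ≠ N → Subsingleton (Coh.HH (P N) (Q F I n) p)) ∧
    (2 ≤ N → (Module.Finite F (Coh.HH (P N) (Q F I n) 0) ∧
        Module.finrank F (Coh.HH (P N) (Q F I n) 0) = cf N n - cf N (n - k)) ∧
      (Module.Finite F (Coh.HH (P N) (Q F I n) (N - 1)) ∧
        Module.finrank F (Coh.HH (P N) (Q F I n) (N - 1)) =
          cf N ((k : ℤ) - 1 - N - n) - cf N (-n - 1 - N))) ∧
    (N = 1 → Module.Finite F (Coh.HH (P N) (Q F I n) 0) ∧
        Module.finrank F (Coh.HH (P N) (Q F I n) 0) + cf N (n - k) + cf N (-n - 1 - N) =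
          cf N n + cf N ((k : ℤ) - 1 - N - n)) := by
  classical
  obtain ⟨e⟩ := hI
  have htop := subsingleton_top F I ⟨e⟩ n hN
  have hL := SerreDual.isInvertible_twist N F n
  let S := twistSeq (ShortComplex.mk (ClSub.idealModι I) (ClSub.toSubscheme I)
      (kernel.condition (ClSub.toSubscheme I))) (O N, n)
  have hS : S.ShortExact := twistSeq_shortExact hL (CurveRR24.shortExact_ideal I)
  obtain ⟨t⟩ := SerreDual.nonempty_twist_tensor N F (show -(k : ℤ) + n = n - k by ring)
  let eK : S.X₁ ≅ O N, (n - k) := AmpleLib.tensorIso e (Iso.refl _) ≪≫ t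
  let eO : S.X₂ ≅ O N, n := AmpleLib.unitTensorIso _
  let φ := baseHom F (P N)
  let U : (P N).Opens := ⊤
  let gK : ∀ q, HA φ S.X₁ U q ≃ₗ[F] Coh.HH (P N) (O N, (n - k)) q := fun q =>
    (HHBaseEquiv F S.X₁ q).symm.trans (SerreDual.hmapIso F eK q)
  let gO : ∀ q, HA φ S.X₂ U q ≃ₗ[F] Coh.HH (P N) (O N, n) q := fun q =>
    (HHBaseEquiv F S.X₂ q).symm.trans (SerreDual.hmapIso F eO q)
  let gQ : ∀ q, HA φ S.X₃ U q ≃ₗ[F] Coh.HH (P N) (Q F I n) q := fun q => (HHBaseEquiv F S.X₃ q).symm
  have zK : ∀ q, q ≠ 0 → q ≠ N → Subsingleton (HA φ S.X₁ U q) := fun q h0 h1 =>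
    haveI := subsingleton_HH_twist (n := N) (R := F) (d := n - k) q (by omega) (by omega)
    (gK q).toEquiv.subsingleton
  have zO : ∀ q, q ≠ 0 → q ≠ N → Subsingleton (HA φ S.X₂ U q) := fun q h0 h1 =>
    haveI := subsingleton_HH_twist (n := N) (R := F) (d := n) q (by omega) (by omega)
    (gO q).toEquiv.subsingleton
  haveI fK0 : Module.Finite F (HA φ S.X₁ U 0) :=
    haveI := (finite_twist_zero F hN (n - k)).1; Module.Finite.equiv (gK 0).symm
  haveI fO0 : Module.Finite F (HA φ S.X₂ U 0) :=
    haveI := (finite_twist_zero F hN n).1; Module.Finite.equiv (gO 0).symm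
  haveI fKN : Module.Finite F (HA φ S.X₁ U N) :=
    haveI := (finite_twist_top F hN (n - k)).1; Module.Finite.equiv (gK N).symm
  haveI fON : Module.Finite F (HA φ S.X₂ U N) :=
    haveI := (finite_twist_top F hN n).1; Module.Finite.equiv (gO N).symm
  have dK0 : Module.finrank F (HA φ S.X₁ U 0) = cf N (n - k) :=
    (gK 0).finrank_eq.trans (finite_twist_zero F hN _).2
  have dO0 : Module.finrank F (HA φ S.X₂ U 0) = cf N n := (gO 0).finrank_eq.trans (finite_twist_zero F hN _).2
  have dKN : Module.finrank F (HA φ S.X₁ U N) = cf N ((k : ℤ) - 1 - N - n) := by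
    rw [(gK N).finrank_eq, (finite_twist_top F hN _).2]; congr 1; ring
  have dON : Module.finrank F (HA φ S.X₂ U N) = cf N (-n - 1 - N) :=
    (gO N).finrank_eq.trans (finite_twist_top F hN _).2
  haveI zQN : Subsingleton (HA φ S.X₃ U N) := haveI := htop N le_rfl; (gQ N).toEquiv.subsingleton
  have hinj0 : Function.Injective (postA φ S.f U 0) := by
    haveI := hS.mono_f
    intro a b hab
    refine (secH (X := (P N).toTopCat) (Coh.toAb S.X₁) U).injective ?_
    refine app_injective_of_mono S.f U ?_
    have hh := fun x => secH_postH (X := (P N).toTopCat) (F := Coh.toAb S.X₁) (G := Coh.toAb S.X₂)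
      ((toAbFunctor (P N)).map S.f) U x
    exact (hh a).symm.trans ((congrArg _ hab).trans (hh b))
  refine ⟨fun p h0 h1 => ?_, fun hN2 => ⟨?_, ?_⟩, fun h1 => ?_⟩
  · by_cases hp : N ≤ p
    · exact htop p hp
    · haveI := zO p h0 (by omega)
      haveI := zK (p + 1) (by omega) (by omega)
      haveI : Subsingleton (HA φ S.X₃ U p) := subsingleton_of_forall_eq 0 fun x => by
        obtain ⟨y, rfl⟩ := (exact_postA_deltaA φ hS U p x).1 (Subsingleton.elim _ _)
        rw [Subsingleton.elim y 0, map_zero]
      exact (gQ p).symm.toEquiv.subsingleton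
  · haveI := zK 1 one_ne_zero (by omega)
    have hs : Function.Surjective (postA φ S.g U 0) :=
      fun z => (exact_postA_deltaA φ hS U 0 z).1 (Subsingleton.elim _ _)
    haveI : Module.Finite F (HA φ S.X₃ U 0) := Module.Finite.of_surjective _ hs
    refine ⟨Module.Finite.equiv (gQ 0), ?_⟩
    have h := LinearMap.finrank_range_add_finrank_ker (postA φ S.g U 0)
    rw [LinearMap.range_eq_top.2 hs, finrank_top, LinearMap.exact_iff.1 (exact_postA φ hS U 0),
      LinearMap.finrank_range_of_inj hinj0, dK0, dO0] at h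
    rw [← (gQ 0).finrank_eq]
    omega
  · obtain ⟨M, rfl⟩ : ∃ M, N = M + 1 := ⟨N - 1, by omega⟩
    rw [show M + 1 - 1 = M from rfl]
    haveI := zO M (by omega) (by omega)
    have hi : Function.Injective (deltaA φ hS U M) := (injective_iff_map_eq_zero _).2 fun x hx => by
      obtain ⟨y, rfl⟩ := (exact_postA_deltaA φ hS U M x).1 hx
      rw [Subsingleton.elim y 0, map_zero]
    haveI : Module.Finite F (HA φ S.X₃ U M) := Module.Finite.of_injective _ hi
    refine ⟨Module.Finite.equiv (gQ M), ?_⟩
    have hs : Function.Surjective (postA φ S.f U (M + 1)) :=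
      fun z => (exact_postA φ hS U (M + 1) z).1 (Subsingleton.elim _ _)
    have h := LinearMap.finrank_range_add_finrank_ker (postA φ S.f U (M + 1))
    rw [LinearMap.range_eq_top.2 hs, finrank_top, LinearMap.exact_iff.1 (exact_deltaA_postA φ hS U M),
      LinearMap.finrank_range_of_inj hi, dKN, dON] at h
    rw [← (gQ M).finrank_eq]
    omega
  · subst h1
    have hs : Function.Surjective (postA φ S.f U 1) :=
      fun z => (exact_postA φ hS U 1 z).1 (Subsingleton.elim _ _)
    have e1 := LinearMap.exact_iff.1 (exact_deltaA_postA φ hS U 0)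
    have e2 := LinearMap.exact_iff.1 (exact_postA_deltaA φ hS U 0)
    have e3 := LinearMap.exact_iff.1 (exact_postA φ hS U 0)
    haveI : Module.Finite F (LinearMap.ker (deltaA φ hS U 0)) := by rw [e2]; infer_instance
    haveI : Module.Finite F (HA φ S.X₃ U 0 ⧸ LinearMap.ker (deltaA φ hS U 0)) :=
      Module.Finite.equiv (deltaA φ hS U 0).quotKerEquivRange.symm
    haveI : Module.Finite F (HA φ S.X₃ U 0) :=
      Module.Finite.of_submodule_quotient (LinearMap.ker (deltaA φ hS U 0))
    refine ⟨Module.Finite.equiv (gQ 0), ?_⟩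
    have h1 := LinearMap.finrank_range_add_finrank_ker (postA φ S.f U 1)
    have h2 := LinearMap.finrank_range_add_finrank_ker (deltaA φ hS U 0)
    have h3 := LinearMap.finrank_range_add_finrank_ker (postA φ S.g U 0)
    rw [LinearMap.range_eq_top.2 hs, finrank_top, e1, dKN, dON] at h1
    rw [e2] at h2
    rw [e3, LinearMap.finrank_range_of_inj hinj0, dK0, dO0] at h3
    rw [← (gQ 0).finrank_eq]
    have key : ∀ {f c d a b x y : ℕ}, b + c = y → c + d = f → d + x = a → f + x + b = a + y := by omega
    exact key h1 h2 h3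

end Groth.Agent.HypCoh14
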